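import Mathlib
import Cfsg.Agent.Prune
set_option linter.all false
open scoped Cfsg.Agent.FastGrp

/-!
# Involutory automorphisms fixing two commuting involutions: general tools (UGT, node [BE])
-/

set_option autoImplicit false

namespace Cfsg.Agent.UGT.KF811

universe u v

/-- every involutory automorphism of `X` centralises two commuting involutions (`helper35`, #9415) -/
def TwoFix (X : Type u) [Group X] : Prop :=
  ∀ t : MulAut X, t * t = 1 →
    ∃ a b : X, a ≠ b ∧ orderOf a = 2 ∧ orderOf b = 2 ∧ a * b = b * a ∧ t a = a ∧ t b = b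

theorem apply_apply {X : Type u} [Group X] {t : MulAut X} (ht : t * t = 1) (x : X) : t (t x) = x := by
  have h := congrArg (fun f : MulAut X => f x) ht
  exact h

/-- transport along an isomorphism -/
theorem TwoFix.of_equiv {X : Type u} {Y : Type v} [Group X] [Group Y] (e : X ≃* Y) (h : TwoFix X) :
    TwoFix Y := by
  intro t ht
  let s : MulAut X := (e.trans t).trans e.symm
  have hs : ∀ x, s x = e.symm (t (e x)) := fun _ => rfl
  have hss : s * s = 1 := by
    ext x
    show s (s x) = x
    rw [hs, hs, e.apply_symm_apply, apply_apply ht, e.symm_apply_apply]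
  obtain ⟨a, b, hab, ha, hb, hc, hta, htb⟩ := h s hss
  refine ⟨e a, e b, fun h => hab (e.injective h), ?_, ?_, ?_, ?_, ?_⟩
  · rw [MulEquiv.orderOf_eq]; exact ha
  · rw [MulEquiv.orderOf_eq]; exact hb
  · rw [← map_mul, ← map_mul, hc]
  · rw [hs] at hta
    rw [← e.symm_apply_eq]; exact hta
  · rw [hs] at htb
    rw [← e.symm_apply_eq]; exact htb

end Cfsg.Agent.UGT.KF811
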