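import Mathlib
import Cfsg.Agent.UGT.KF811.Tools
import Cfsg.Agent.J4Type.Aut22
import Cfsg.Agent.SporadicA.OctadFix
import Cfsg.Agent.SporadicStructure.M23Index253
import Cfsg.Agent.Schreier.MTwentyThree
import Cfsg.Agent.Prune
set_option linter.all false
open scoped Cfsg.Agent.FastGrp

/-!
# `TwoFix` for `M22` and `M23`

Every automorphism of `M22` is the conjugation by an element of `M24` fixing the duad. An involutory one fixes one of the
77 octads through the duad, so it normalises the pointwise stabiliser of this octad, elementary abelian of order 16.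
An involutory automorphism of `M23` fixes one of the 23 point stabilisers.
-/

set_option autoImplicit false
open scoped Pointwise

namespace Cfsg.Agent.UGT.KF811

open Cfsg MulAction
open Cfsg.Agent.J4Type.Aut22 (D22 mem_D22_iff exists_conj eq_one_of_centralizes)
open Cfsg.Agent.SporadicA.OctadFix (fixOct mem_fixOct conj_mem_fixOct card_fixOct fixOct_sq)
open Cfsg.Agent.SporadicStructure.M23Index253 (smul_mem_octads)
open Cfsg.Agent.SporadicA.MathieuRecog (mem_M22_iff mem_M23_iff M22_le)

/-- the octads through the duad -/
def Oct2 : Set (Finset GolayPt) := {o | o ∈ octads ∧ none ∈ o ∧ some 0 ∈ o}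

theorem ncard_Oct2 : Oct2.ncard = 77 := by
  classical
  have hS : IsSteinerSystem 5 8 octads := Cfsg.Agent.S0363.result
  have h := SporadicA.SteinerCount.card_blocks_containing hS
    (Finset.univ.filter fun o => o ∈ octads) (by simp) {none, some 0} (by simp)
  have h2 : Oct2 =
      ((((Finset.univ.filter fun o => o ∈ octads).filter fun b => {none, some 0} ⊆ b) :
        Finset (Finset GolayPt)) : Set (Finset GolayPt)) := by
    ext o; simp [Oct2, Finset.insert_subset_iff]
  rw [h2, Set.ncard_coe_finset]
  have h3 : Fintype.card GolayPt = 24 := by simp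
  rw [h3] at h
  have h6 : ({none, some 0} : Finset GolayPt).card = 2 := by
    rw [Finset.card_pair]; simp
  rw [h6] at h
  have h4 : (8 - 2).choose (5 - 2) = 20 := by decide
  have h5 : (24 - 2).choose (5 - 2) = 1540 := by decide +kernel
  rw [h4, h5] at h
  omega

end Cfsg.Agent.UGT.KF811

private theorem dce_b38ea5d84093 : _root_.True := by
  try have : _root_.True := by simp only [_root_.Cfsg.Agent.UGT.KF811.Oct2.eq_1]
  exact _root_.True.intro
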